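import Groth.Agent.Lib.JetTensor29.Basic
import Groth.Agent.Lib.FunMor20.FMNat
import Groth.Agent.Lib.GGDesc10.Main
import Groth.Agent.Lib.QCohAlg9.Global
import Groth.Agent.Lib.LeffAmp7.Stalks
import Groth.Agent.Lib.PicLim26.DivOpen
import Groth.Agent.Lib.UnivThick.FOT
import Groth.Agent.Lib.BaseChange.AlgClosedIn
import Groth.Agent.Lib.SchImage.Reduced
import Groth.Prelude.Def_CurvBase

/-!
# Separation of jets under extension of the ground field
-/

set_option autoImplicit false
set_option linter.style.haveILetI false
set_option backward.isDefEq.respectTransparency false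
set_option maxHeartbeats 1000000

universe u

open CategoryTheory CategoryTheory.Limits AlgebraicGeometry Opposite TopologicalSpace

noncomputable section

namespace GrothLib.JetTensor29

section

variable {X X' S S' : Scheme.{u}} {f : X ⟶ S} {g : S' ⟶ S} {π : X' ⟶ X} {f' : X' ⟶ S'}

theorem epi_push_iff [IsAffine S] [QuasiCompact f] [QuasiSeparated f] {M N : X.Modules} [M.IsQuasicoherent]
    [N.IsQuasicoherent] (φ : M ⟶ N) :
    Function.Surjective (φ.app ⊤) ↔ Epi ((Scheme.Modules.pushforward f).map φ) := by
  let ψ := (Scheme.Modules.pushforward f).map φ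
  haveI := QCoh.isQuasicoherent_pushforward f M
  haveI := QCoh.isQuasicoherent_pushforward f N
  refine ⟨fun h => QCohAlg9.epi_of_surjective_top ψ h, fun h => ?_⟩
  have hS : (ShortComplex.mk (kernel.ι ψ) ψ (kernel.condition ψ)).ShortExact :=
    { exact := ShortComplex.exact_of_f_is_kernel _ (kernelIsKernel _)
      mono_f := inferInstanceAs (Mono (kernel.ι ψ))
      epi_g := h }
  haveI : (kernel ψ).IsQuasicoherent := QCoh.isQuasicoherent_kernel ψ
  exact QCoh.app_surjective_of_isAffineOpen hS (isAffineOpen_top S)

/-- The unit of a closed subscheme commutes with base change, up to isomorphism. -/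
theorem exists_unit_baseChange (I : X.IdealSheafData) (π : X' ⟶ X) (F : X.Modules) [F.IsQuasicoherent] :
    Nonempty (Arrow.mk ((Scheme.Modules.pullback π).map
        ((Scheme.Modules.pullbackPushforwardAdjunction I.subschemeι).unit.app F)) ≅
      Arrow.mk ((Scheme.Modules.pullbackPushforwardAdjunction (I.comap π).subschemeι).unit.app
        ((Scheme.Modules.pullback π).obj F))) := by
  let i := I.subschemeι
  let i' := (I.comap π).subschemeι
  let b := (I.comapIso π).hom ≫ pullback.snd π I.subschemeι
  have hZ : IsPullback b i' i π := (PicLim26.isPullback_comap_subscheme I π).flip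
  let adj := Scheme.Modules.pullbackPushforwardAdjunction i
  let adj' := Scheme.Modules.pullbackPushforwardAdjunction i'
  let N := (Scheme.Modules.pullback i).obj F
  haveI : N.IsQuasicoherent := FittSheaf.isQuasicoherent_pullback i F
  haveI := AffBC.isIso_bcMap hZ N
  let N' := (Scheme.Modules.pullback b).obj N
  haveI : N'.IsQuasicoherent := FittSheaf.isQuasicoherent_pullback b N
  haveI := QCoh.isQuasicoherent_pushforward i N
  haveI := QCoh.isQuasicoherent_pushforward i' N'
  haveI := LeffAmp7.isIso_counit_closed i N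
  haveI := LeffAmp7.isIso_counit_closed i' N'
  haveI hη : IsIso ((Scheme.Modules.pullback i).map (adj.unit.app F)) := by
    haveI : IsIso ((Scheme.Modules.pullback i).map (adj.unit.app F) ≫ adj.counit.app N) :=
      (adj.left_triangle_components F).symm ▸ inferInstance
    exact IsIso.of_isIso_comp_right _ (adj.counit.app N)
  let Φ : Scheme.Modules.pullback π ⋙ Scheme.Modules.pullback i' ≅
      Scheme.Modules.pullback i ⋙ Scheme.Modules.pullback b :=
    Scheme.Modules.pullbackComp i' π ≪≫ Scheme.Modules.pullbackCongr hZ.w.symm ≪≫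
      (Scheme.Modules.pullbackComp b i).symm
  haveI hη' : IsIso ((Scheme.Modules.pullback i').map ((Scheme.Modules.pullback π).map (adj.unit.app F))) :=
    (NatIso.isIso_map_iff Φ (adj.unit.app F)).2
      (inferInstanceAs (IsIso ((Scheme.Modules.pullback b).map ((Scheme.Modules.pullback i).map (adj.unit.app F)))))
  let θ := (Scheme.Modules.pullback π).map (adj.unit.app F) ≫ AffBC.bcMap hZ N
  let ψ : (Scheme.Modules.pullback i').obj ((Scheme.Modules.pullback π).obj F) ⟶ N' :=
    (Scheme.Modules.pullback i').map θ ≫ adj'.counit.app N'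
  haveI hψ : IsIso ψ := by
    show IsIso ((Scheme.Modules.pullback i').map θ ≫ adj'.counit.app N')
    rw [Functor.map_comp]
    infer_instance
  have e : adj'.unit.app _ ≫ (Scheme.Modules.pushforward i').map ψ = θ :=
    (adj'.homEquiv_unit _ _ _).symm.trans
      ((congrArg (adj'.homEquiv _ _) (adj'.homEquiv_counit _ _ θ).symm).trans ((adj'.homEquiv _ _).apply_symm_apply θ))
  exact ⟨Arrow.isoMk (Iso.refl _) (asIso (AffBC.bcMap hZ N) ≪≫ (asIso ((Scheme.Modules.pushforward i').map ψ)).symm)
    (by
      simp only [Iso.refl_hom, Category.id_comp, Arrow.mk_hom, Iso.trans_hom, asIso_hom, Iso.symm_hom]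
      exact (IsIso.eq_comp_inv _).2 e |>.trans (Category.assoc _ _ _))⟩

/-- Surjectivity onto the sections on a closed subscheme is detected after a faithfully flat base change. -/
theorem surjective_resH_baseChange [IsAffine S] [IsAffine S'] [QuasiCompact f] [QuasiSeparated f] [Flat g]
    [Surjective g] (h : IsPullback π f' f g) (I : X.IdealSheafData) (F : X.Modules) [F.IsQuasicoherent] :
    Function.Surjective (W4c2seshadripos.resH I F) ↔
      Function.Surjective (W4c2seshadripos.resH (I.comap π) ((Scheme.Modules.pullback π).obj F)) := by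
  haveI : QuasiCompact f' := MorphismProperty.of_isPullback h ‹QuasiCompact f›
  haveI : QuasiSeparated f' := MorphismProperty.of_isPullback h ‹QuasiSeparated f›
  let η : F ⟶ (Scheme.Modules.pushforward I.subschemeι).obj ((Scheme.Modules.pullback I.subschemeι).obj F) :=
    (Scheme.Modules.pullbackPushforwardAdjunction I.subschemeι).unit.app F
  let η' : (Scheme.Modules.pullback π).obj F ⟶ (Scheme.Modules.pushforward (I.comap π).subschemeι).obj
      ((Scheme.Modules.pullback (I.comap π).subschemeι).obj ((Scheme.Modules.pullback π).obj F)) :=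
    (Scheme.Modules.pullbackPushforwardAdjunction (I.comap π).subschemeι).unit.app
      ((Scheme.Modules.pullback π).obj F)
  haveI : ((Scheme.Modules.pullback I.subschemeι).obj F).IsQuasicoherent := FittSheaf.isQuasicoherent_pullback _ F
  haveI := QCoh.isQuasicoherent_pushforward I.subschemeι ((Scheme.Modules.pullback I.subschemeι).obj F)
  haveI : ((Scheme.Modules.pullback π).obj F).IsQuasicoherent := FittSheaf.isQuasicoherent_pullback π F
  haveI : ((Scheme.Modules.pullback (I.comap π).subschemeι).obj
      ((Scheme.Modules.pullback π).obj F)).IsQuasicoherent := FittSheaf.isQuasicoherent_pullback _ _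
  haveI := QCoh.isQuasicoherent_pushforward (I.comap π).subschemeι
    ((Scheme.Modules.pullback (I.comap π).subschemeι).obj ((Scheme.Modules.pullback π).obj F))
  rw [surjective_resH_iff_app, surjective_resH_iff_app]
  refine (epi_push_iff (f := f) η).trans (Iff.trans ?_ (epi_push_iff (f := f') η').symm)
  obtain ⟨e⟩ := exists_unit_baseChange I π F
  refine Iff.trans ?_ ((MorphismProperty.epimorphisms _).arrow_mk_iso_iff
    ((Scheme.Modules.pushforward f').mapArrow.mapIso e))
  have h1 := FlatBC.isIso_bcMap h F
  have h2 := FlatBC.isIso_bcMap h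
    ((Scheme.Modules.pushforward I.subschemeι).obj ((Scheme.Modules.pullback I.subschemeι).obj F))
  refine Iff.trans ?_ ((MorphismProperty.epimorphisms _).arrow_mk_iso_iff
    (Arrow.isoMk (@asIso _ _ _ _ (AffBC.bcMap h F) h1) (@asIso _ _ _ _ (AffBC.bcMap h _) h2)
      (FunMor20.bcMap_natural h η).symm))
  refine ⟨fun he => ?_, GGDesc10.epi_of_epi_pullback g _⟩
  haveI : (Scheme.Modules.pullback g).IsLeftAdjoint :=
    (Scheme.Modules.pullbackPushforwardAdjunction g).isLeftAdjoint
  exact @Functor.map_epi _ _ _ _ (Scheme.Modules.pullback g) _ _ _ _ he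

end

/-- The ideal of a rational point pulls back to the ideal of the point above it. -/
theorem comap_pointIdeal (k : Type u) [Field k] (X : Scheme.{u}) [X.Over (Spec (CommRingCat.of k))]
    [IsSeparated (X ↘ Spec (CommRingCat.of k))] (x : X) (hx : IsClosed ({x} : Set X))
    (hrat : Function.Surjective (Curv2.resMap k X x)) (k' : Type u) [Field k'] [Algebra k k']
    (x' : ↥(Curv2.bc k X k')) (hx' : Curv2.bcFst k X k' x' = x) (hx'c : IsClosed ({x'} : Set ↥(Curv2.bc k X k'))) :
    (W4c2seshadripos.pointIdeal x hx).comap (Curv2.bcFst k X k') = W4c2seshadripos.pointIdeal x' hx'c := by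
  let f := X ↘ Spec (CommRingCat.of k)
  let g := Spec.map (CommRingCat.ofHom (algebraMap k k'))
  let r := (RingEquiv.ofBijective _ ⟨(Curv2.resMap k X x).injective, hrat⟩).symm.toRingHom
  let σ : Spec (CommRingCat.of k) ⟶ X := Spec.map (CommRingCat.ofHom r) ≫ X.fromSpecResidueField x
  have hσ : σ ≫ f = 𝟙 _ := by
    rw [Category.assoc, BaseChange.fromSpecResidueField_over, ← Spec.map_comp, ← Spec.map_id]
    congr 1
    ext a
    exact (RingEquiv.ofBijective _ ⟨(Curv2.resMap k X x).injective, hrat⟩).symm_apply_apply a
  haveI : IsClosedImmersion σ := by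
    haveI : IsClosedImmersion (σ ≫ f) := by rw [hσ]; infer_instance
    exact IsClosedImmersion.of_comp σ f
  let σ' : Spec (CommRingCat.of k') ⟶ Curv2.bc k X k' :=
    pullback.lift (g ≫ σ) (𝟙 _) (by rw [Category.assoc, hσ, Category.comp_id, Category.id_comp])
  have hpb : IsPullback g σ' σ (Curv2.bcFst k X k') := by
    refine IsPullback.of_bot ?_ (pullback.lift_fst _ _ _).symm (IsPullback.of_hasPullback f g)
    rw [hσ, pullback.lift_snd]
    exact IsPullback.of_vert_isIso ⟨by simp⟩
  have hr : ∀ (s : Spec (CommRingCat.of k)), σ s = x := fun s => by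
    exact X.fromSpecResidueField_apply x _
  have hk : σ.ker = W4c2seshadripos.pointIdeal x hx := by
    rw [SchImage.ker_eq_vanishingIdeal]
    refine congrArg Scheme.IdealSheafData.vanishingIdeal (Closeds.ext ?_)
    show closure (Set.range σ) = ({x} : Set X)
    rw [show Set.range σ = {x} from (Set.range_eq_singleton_iff).2 hr, hx.closure_eq]
  have hk' : σ'.ker = (W4c2seshadripos.pointIdeal x hx).comap (Curv2.bcFst k X k') :=
    hk ▸ UnivThick.ker_of_isPullback hpb
  rw [← hk', SchImage.ker_eq_vanishingIdeal]
  refine congrArg Scheme.IdealSheafData.vanishingIdeal (Closeds.ext ?_)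
  show closure (Set.range σ') = ({x'} : Set ↥(Curv2.bc k X k'))
  have hx2 : x' ∈ Set.range σ' := by
    obtain ⟨z, -, hz⟩ := Scheme.exists_preimage_of_isPullback hpb default x' ((hr default).trans hx'.symm)
    exact ⟨z, hz⟩
  have h1 : Set.range σ' = {x'} := by
    obtain ⟨z, rfl⟩ := hx2
    exact Set.range_eq_singleton_iff.2 fun w => by rw [Subsingleton.elim w z]
  rw [h1, hx'c.closure_eq]

end GrothLib.JetTensor29
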