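import Groth.Agent.Lib.QCoh.ClosedImmersion
import Groth.Agent.Lib.FormalFun.Levels
import Groth.Agent.Lib.Ref1.Tensor
import Groth.Agent.Lib.PointSky29.Basic
import Groth.Prelude.Def_W4c2seshadriposJets

/-!
# Jets of tensor products
-/

set_option autoImplicit false
set_option maxHeartbeats 400000
set_option linter.style.haveILetI false
set_option backward.isDefEq.respectTransparency false

universe u

open CategoryTheory CategoryTheory.Limits AlgebraicGeometry Opposite TopologicalSpace
open scoped TensorProduct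

noncomputable section

namespace GrothLib.JetTensor29

section Algebra

variable {A M N P : Type u} [CommRing A] [AddCommGroup M] [Module A M] [AddCommGroup N] [Module A N]
  [AddCommGroup P] [Module A P]

theorem bilin_mem_pow (I : Ideal A) (B : M →ₗ[A] N →ₗ[A] P) {a b : ℕ} {v : M} {w : N}
    (hv : v ∈ I ^ a • (⊤ : Submodule A M)) (hw : w ∈ I ^ b • (⊤ : Submodule A N)) :
    B v w ∈ I ^ (a + b) • (⊤ : Submodule A P) := by
  refine Submodule.smul_induction_on hv (fun r hr m _ => ?_) fun y y' h h' => ?_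
  · rw [map_smul, LinearMap.smul_apply, pow_add, mul_smul]
    refine Submodule.smul_mem_smul hr ?_
    refine Submodule.smul_induction_on hw (fun q hq n _ => ?_) fun y y' h h' => ?_
    · rw [map_smul]
      exact Submodule.smul_mem_smul hq trivial
    · rw [map_add]
      exact add_mem h h'
  · rw [map_add, LinearMap.add_apply]
    exact add_mem h h'

/-- Approximation modulo powers multiplies. -/
theorem approx_tensor (I : Ideal A) (B : M →ₗ[A] N →ₗ[A] P) (hB : ∀ p : P, p ∈ Submodule.span A {B m n | (m : M) (n : N)})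
    (S : Set M) (T : Set N) (U : AddSubgroup P) (hU : ∀ s ∈ S, ∀ t ∈ T, B s t ∈ U) (i j : ℕ)
    (hi : ∀ m : M, ∃ s ∈ S, s - m ∈ I ^ (i + 1) • (⊤ : Submodule A M))
    (hj : ∀ n : N, ∃ t ∈ T, t - n ∈ I ^ (j + 1) • (⊤ : Submodule A N)) :
    ∀ k ≤ i + j + 1, ∀ p : P, ∃ q ∈ U, q - p ∈ I ^ k • (⊤ : Submodule A P) := by
  intro k
  induction k with
  | zero =>
    exact fun _ p => ⟨0, U.zero_mem, by simp⟩
  | succ k ih =>
    intro hk p
    obtain ⟨q, hq, hqp⟩ := ih (by omega) p
    suffices h : ∀ p ∈ I ^ k • (⊤ : Submodule A P), ∃ q' ∈ U, q' - p ∈ I ^ (k + 1) • (⊤ : Submodule A P) by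
      obtain ⟨q', hq', hq'p⟩ := h _ hqp
      exact ⟨q - q', U.sub_mem hq hq', by
        rw [show q - q' - p = -(q' - (q - p)) by abel]
        exact neg_mem hq'p⟩
    obtain ⟨a, b, hab, ha, hb⟩ : ∃ a b, a + b = k ∧ a ≤ i ∧ b ≤ j := ⟨min k i, k - min k i, by omega, by omega, by omega⟩
    intro p hp
    refine Submodule.smul_induction_on hp (fun r hr y _ => ?_) fun y y' ⟨q, hq, h⟩ ⟨q', hq', h'⟩ =>
      ⟨q + q', U.add_mem hq hq', by rw [add_sub_add_comm]; exact add_mem h h'⟩
    revert r
    refine Submodule.span_induction (p := fun y _ => ∀ r ∈ I ^ k, ∃ q' ∈ U, q' - r • y ∈ I ^ (k + 1) • (⊤ : Submodule A P))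
      ?_ (fun r _ => ⟨0, U.zero_mem, by simp⟩) (fun y y' _ _ h h' r hr => ?_) (fun c y _ h r hr => ?_) (hB y)
    · rintro _ ⟨m, n, rfl⟩ r hr
      rw [← hab, pow_add] at hr
      refine Submodule.mul_induction_on (C := fun r => ∃ q' ∈ U, q' - r • B m n ∈ I ^ (k + 1) • (⊤ : Submodule A P))
        hr (fun c hc c' hc' => ?_) fun c c' ⟨q, hq, h⟩ ⟨q', hq', h'⟩ =>
        ⟨q + q', U.add_mem hq hq', by rw [add_smul, add_sub_add_comm]; exact add_mem h h'⟩
      obtain ⟨s, hs, hsm⟩ := hi (c • m)
      obtain ⟨t, ht, htn⟩ := hj (c' • n)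
      refine ⟨B s t, hU s hs t ht, ?_⟩
      have htb : t ∈ I ^ b • (⊤ : Submodule A N) := by
        rw [← sub_add_cancel t (c' • n)]
        exact add_mem (Submodule.smul_mono_left (Ideal.pow_le_pow_right (by omega)) htn)
          (Submodule.smul_mem_smul hc' trivial)
      rw [show B s t - (c * c') • B m n = B (s - c • m) t + B (c • m) (t - c' • n) by
        simp only [map_sub, LinearMap.sub_apply, map_smul, LinearMap.smul_apply, smul_sub, smul_smul, mul_comm c' c]
        abel]
      exact add_mem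
        (Submodule.smul_mono_left (Ideal.pow_le_pow_right (by omega)) (bilin_mem_pow I B hsm htb))
        (Submodule.smul_mono_left (Ideal.pow_le_pow_right (by omega))
          (bilin_mem_pow I B (Submodule.smul_mem_smul hc trivial) htn))
    · obtain ⟨q, hq, hy⟩ := h r hr
      obtain ⟨q', hq', hy'⟩ := h' r hr
      exact ⟨q + q', U.add_mem hq hq', by rw [smul_add, add_sub_add_comm]; exact add_mem hy hy'⟩
    · rw [smul_smul]
      exact h (r * c) (Ideal.mul_mem_right c _ hr)

end Algebra

variable {X : Scheme.{u}}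

section Unit

variable {A B : Type u} [CommRing A] [CommRing B] (φ : A →+* B) (hφ : Function.Surjective φ) (M : ModuleCat.{u} A)
include hφ

theorem unit_surjective : Function.Surjective ((ModuleCat.extendRestrictScalarsAdj φ).unit.app M).hom := fun n => by
  letI := φ.toAlgebra
  obtain ⟨e, he⟩ := TensorProduct.mk_surjective A M B hφ n
  exact ⟨e, he⟩

theorem unit_eq_zero_iff (e : M) : ((ModuleCat.extendRestrictScalarsAdj φ).unit.app M).hom e = 0 ↔
    e ∈ RingHom.ker φ • (⊤ : Submodule A M) := by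
  letI := φ.toAlgebra
  refine ⟨fun h => FormalFun.mem_smul_top_of_one_tmul_eq_zero B hφ h, fun h => ?_⟩
  change ((1 : B) ⊗ₜ[A] e : B ⊗[A] M) = 0
  refine Submodule.smul_induction_on h (fun r hr m _ => ?_) fun a b ha hb => ?_
  · rw [TensorProduct.tmul_smul, TensorProduct.smul_tmul', Algebra.smul_def, mul_one,
      show algebraMap A B r = 0 from hr, TensorProduct.zero_tmul]
  · rw [TensorProduct.tmul_add, ha, hb, add_zero]

end Unit

section Point

variable (I : X.IdealSheafData) (M : X.Modules) (z : I.subscheme)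

/-- `i_* i^* M`. -/
abbrev resMod : X.Modules := (Scheme.Modules.pushforward I.subschemeι).obj ((Scheme.Modules.pullback I.subschemeι).obj M)

/-- The restriction map. -/
abbrev resMap : M ⟶ resMod I M := (Scheme.Modules.pullbackPushforwardAdjunction I.subschemeι).unit.app M

theorem bijective_germ (hr : ∀ w : I.subscheme, w = z) :
    Function.Bijective (fun t : Γ(resMod I M, ⊤) => (resMod I M).presheaf.germ ⊤ (I.subschemeι z) trivial t) := by
  refine ⟨(injective_iff_map_eq_zero ((resMod I M).presheaf.germ ⊤ (I.subschemeι z) trivial).hom).2 fun t ht => ?_,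
    fun e => ?_⟩
  · refine OX.section_eq_zero (M := resMod I M) t fun y _ => ?_
    by_cases hy : y = I.subschemeι z
    · subst hy
      exact ht
    · haveI := ModuleCat.isZero_iff_subsingleton.1 (PointSky29.isZero_stalk_of_notMem_range I.subschemeι
        I.subschemeι.isClosedEmbedding.isClosed_range ((Scheme.Modules.pullback I.subschemeι).obj M) (y := y)
        (by rintro ⟨w, rfl⟩; exact hy (congrArg I.subschemeι (hr w))))
      exact Subsingleton.elim (α := ((OX.stalk y).obj (resMod I M))) _ _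
  · obtain ⟨V, hV, s, rfl⟩ := OX.germ_exists (DCoh.toP.obj (resMod I M)) e
    have hV' : I.subschemeι ⁻¹ᵁ (⊤ : X.Opens) ≤ I.subschemeι ⁻¹ᵁ V := fun w _ =>
      show I.subschemeι w ∈ V by rw [hr w]; exact hV
    let t : Γ(resMod I M, ⊤) :=
      ((Scheme.Modules.pullback I.subschemeι).obj M).presheaf.map (homOfLE hV').op s
    refine ⟨t, (QCoh.pushStalkHom_bijective I.subschemeι z _ I.subschemeι.isClosedEmbedding.isInducing).1 ?_⟩
    refine (QCoh.pushStalkHom_germ I.subschemeι z _ ⊤ trivial t).trans ?_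
    exact (OX.germ_map ((Scheme.Modules.pullback I.subschemeι).obj M).val (homOfLE hV') _ s).trans
      (QCoh.pushStalkHom_germ I.subschemeι z _ V hV s).symm

theorem surjective_resH_iff_app :
    Function.Surjective (W4c2seshadripos.resH I M) ↔ Function.Surjective ((resMap I M).app ⊤) := by
  let hT : IsTerminal (⊤ : X.Opens) := isTerminalTop
  let e₁ := Sheaf.H.equiv₀ ((SheafOfModules.toSheaf X.ringCatSheaf).obj M) hT
  let e₂ := Sheaf.H.equiv₀ ((SheafOfModules.toSheaf X.ringCatSheaf).obj (resMod I M)) hT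
  have hn : ∀ a, (resMap I M).app ⊤ (e₁ a) = e₂ (W4c2seshadripos.resH I M a) := fun a =>
    Sheaf.H.equiv₀_naturality (hT := hT) ((SheafOfModules.toSheaf X.ringCatSheaf).map (resMap I M)) a
  refine ⟨fun h t => ?_, fun h a => ?_⟩
  · obtain ⟨a, ha⟩ := h (e₂.symm t)
    exact ⟨e₁ a, (hn a).trans ((congrArg e₂ ha).trans (e₂.apply_symm_apply t))⟩
  · obtain ⟨t, ht⟩ := h (e₂ a)
    exact ⟨e₁.symm t, e₂.injective ((hn _).symm.trans
      ((congrArg ((resMap I M).app ⊤) (e₁.apply_symm_apply t)).trans ht))⟩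

/-- The comparison with the base change of the stalk. -/
def stalkCmp : (OX.stalk (I.subschemeι z)).obj (resMod I M) ⟶
    (ModuleCat.restrictScalars (I.subschemeι.stalkMap z).hom).obj
      ((ModuleCat.extendScalars (I.subschemeι.stalkMap z).hom).obj ((OX.stalk (I.subschemeι z)).obj M)) :=
  QCoh.pushStalkHom I.subschemeι z ((Scheme.Modules.pullback I.subschemeι).obj M) ≫
    (ModuleCat.restrictScalars (I.subschemeι.stalkMap z).hom).map
      ((QCoh.stalkPullbackIso I.subschemeι z).hom.app M)

theorem bijective_stalkCmp : Function.Bijective (stalkCmp I M z).hom := by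
  rw [stalkCmp, ModuleCat.hom_comp, LinearMap.coe_comp]
  exact (ConcreteCategory.bijective_of_isIso _).comp
    (QCoh.pushStalkHom_bijective I.subschemeι z _ I.subschemeι.isClosedEmbedding.isInducing)

theorem stalkCmp_comp : (OX.stalk (I.subschemeι z)).map (resMap I M) ≫ stalkCmp I M z =
    (ModuleCat.extendRestrictScalarsAdj (I.subschemeι.stalkMap z).hom).unit.app ((OX.stalk (I.subschemeι z)).obj M) :=
  QCoh.unit_stalk_comp I.subschemeι z M

theorem stalk_resMap_eq_zero_iff (e : M.presheaf.stalk (I.subschemeι z)) :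
    ((OX.stalk (I.subschemeι z)).map (resMap I M)).hom e = 0 ↔
      e ∈ RingHom.ker (I.subschemeι.stalkMap z).hom •
        (⊤ : Submodule (X.presheaf.stalk (I.subschemeι z)) (M.presheaf.stalk (I.subschemeι z))) :=
  ((map_eq_zero_iff (stalkCmp I M z).hom (bijective_stalkCmp I M z).1).symm.trans
    (Iff.of_eq (congrArg (· = 0) (ConcreteCategory.congr_hom (stalkCmp_comp I M z) e)))).trans
    (unit_eq_zero_iff (I.subschemeι.stalkMap z).hom (I.subschemeι.stalkMap_surjective z)
      ((OX.stalk (I.subschemeι z)).obj M) e)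

theorem stalk_resMap_surjective :
    Function.Surjective ((OX.stalk (I.subschemeι z)).map (resMap I M)).hom := fun n => by
  obtain ⟨e, he⟩ := unit_surjective (I.subschemeι.stalkMap z).hom (I.subschemeι.stalkMap_surjective z)
    ((OX.stalk (I.subschemeι z)).obj M) ((stalkCmp I M z).hom n)
  exact ⟨e, (bijective_stalkCmp I M z).1 ((ConcreteCategory.congr_hom (stalkCmp_comp I M z) e).trans he)⟩

/-- Surjectivity of restriction to a one-point closed subscheme. -/
theorem surjective_resH_iff (hr : ∀ w : I.subscheme, w = z) :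
    Function.Surjective (W4c2seshadripos.resH I M) ↔
      ∀ e : M.presheaf.stalk (I.subschemeι z), ∃ s : Γ(M, ⊤),
        M.presheaf.germ ⊤ (I.subschemeι z) trivial s - e ∈
          RingHom.ker (I.subschemeι.stalkMap z).hom • (⊤ : Submodule (X.presheaf.stalk (I.subschemeι z)) _) := by
  have hnat : ∀ s : Γ(M, ⊤), ((OX.stalk (I.subschemeι z)).map (resMap I M)).hom
      (M.presheaf.germ ⊤ (I.subschemeι z) trivial s) =
      (resMod I M).presheaf.germ ⊤ (I.subschemeι z) trivial ((resMap I M).app ⊤ s) := fun s =>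
    OX.stalkPre_map_germ (DCoh.toP.map (resMap I M)) ⊤ trivial s
  rw [surjective_resH_iff_app]
  refine ⟨fun h e => ?_, fun h t => ?_⟩
  · obtain ⟨t, ht⟩ := (bijective_germ I M z hr).2 (((OX.stalk (I.subschemeι z)).map (resMap I M)).hom e)
    obtain ⟨s, hs⟩ := h t
    refine ⟨s, (stalk_resMap_eq_zero_iff I M z _).1 ((map_sub _ _ _).trans (sub_eq_zero.2 ?_))⟩
    exact (hnat s).trans ((congrArg _ hs).trans ht)
  · obtain ⟨e, he⟩ := stalk_resMap_surjective I M z ((resMod I M).presheaf.germ ⊤ (I.subschemeι z) trivial t)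
    obtain ⟨s, hs⟩ := h e
    refine ⟨s, (bijective_germ I M z hr).1 ?_⟩
    have h' := sub_eq_zero.1 ((map_sub _ _ _).symm.trans ((stalk_resMap_eq_zero_iff I M z _).2 hs))
    exact (hnat s).symm.trans (h'.trans he)

end Point

theorem separatesJets_tensor (x : X) (hx : IsClosed ({x} : Set X)) (F G : X.Modules) (i j : ℕ)
    (hi : W4c2seshadripos.SeparatesJets F x hx i) (hj : W4c2seshadripos.SeparatesJets G x hx j) :
    W4c2seshadripos.SeparatesJets (CohB1.tensorMod F G) x hx (i + j) := by
  let J := W4c2seshadripos.pointIdeal x hx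
  have hsupp : (J.support : Set X) = {x} :=
    Scheme.IdealSheafData.coe_support_vanishingIdeal ⟨{x}, hx⟩
  have key : ∀ (M : X.Modules) (n : ℕ), W4c2seshadripos.SeparatesJets M x hx n ↔
      ∀ e : M.presheaf.stalk x, ∃ s : Γ(M, ⊤), M.presheaf.germ ⊤ x trivial s - e ∈
        GrothLib.CartierDescent.stalkIdeal J x ^ (n + 1) • (⊤ : Submodule (X.presheaf.stalk x) _) := by
    intro M n
    obtain ⟨z, hz⟩ := FormalFun.exists_level_point J n (show x ∈ (J.support : Set X) by rw [hsupp]; exact Set.mem_singleton x)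
    have hr : ∀ w : (J ^ (n + 1)).subscheme, w = z := fun w => by
      refine (J ^ (n + 1)).subschemeι.isClosedEmbedding.injective ?_
      have hw : (J ^ (n + 1)).subschemeι w ∈ Set.range (J ^ (n + 1)).subschemeι := ⟨w, rfl⟩
      rw [Scheme.IdealSheafData.range_subschemeι, Scheme.IdealSheafData.support_pow_succ, hsupp] at hw
      exact (show _ = x from hw).trans hz.symm
    refine (surjective_resH_iff (J ^ (n + 1)) M z hr).trans ?_
    rw [FormalFun.ker_stalkMap_level]
    exact Iff.of_eq (congrArg (fun y : X => ∀ e : M.presheaf.stalk y, ∃ s : Γ(M, ⊤), M.presheaf.germ ⊤ y trivial s - e ∈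
      GrothLib.CartierDescent.stalkIdeal J y ^ (n + 1) • (⊤ : Submodule (X.presheaf.stalk y) _)) hz)
  let T := CohB1.tensorMod F G
  let B := Ref1.tmulStalk F G x
  refine (key T (i + j)).2 fun e => ?_
  obtain ⟨q, ⟨s, rfl⟩, hq⟩ := approx_tensor (GrothLib.CartierDescent.stalkIdeal J x) B
    (fun p => by
      rw [← (Ref1.tensorStalk F G x).symm_apply_apply p]
      generalize Ref1.tensorStalk F G x p = y
      induction y using TensorProduct.induction_on with
      | zero => simp
      | tmul a b => exact Submodule.subset_span ⟨a, b, rfl⟩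
      | add a b ha hb => rw [map_add]; exact add_mem ha hb)
    (Set.range fun s : Γ(F, ⊤) => F.presheaf.germ ⊤ x trivial s)
    (Set.range fun s : Γ(G, ⊤) => G.presheaf.germ ⊤ x trivial s)
    (T.presheaf.germ ⊤ x trivial).hom.range
    (by
      rintro _ ⟨s, rfl⟩ _ ⟨t, rfl⟩
      exact ⟨SecTwist.tmul F G ⊤ s t, Ref1.germ_tmul F G (U := ⊤) trivial s t⟩)
    i j (fun m => (key F i).1 hi m |>.elim fun s hs => ⟨_, ⟨s, rfl⟩, hs⟩)
    (fun m => (key G j).1 hj m |>.elim fun s hs => ⟨_, ⟨s, rfl⟩, hs⟩) (i + j + 1) le_rfl e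
  exact ⟨s, hq⟩

end GrothLib.JetTensor29
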